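import Groth.Agent.BaseAmpLib.PC
import Groth.Agent.RelPCLib.LBC

/-!
# Derived pullback and relative pseudo-coherence of composites
-/

set_option autoImplicit false
set_option linter.all false
set_option backward.isDefEq.respectTransparency false
set_option backward.isDefEq.respectTransparency.types false
set_option maxHeartbeats 1000000

universe u

open CategoryTheory CategoryTheory.Limits AlgebraicGeometry Opposite
open Groth.Agent

attribute [local instance] HasDerivedCategory.standard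

namespace LpullPCCompLib

variable {X Y Z : Scheme.{u}}

attribute [local instance] FlatRelPCLib.tildeExact

theorem rel_lpull_comp (f : X ⟶ Y) (g : Y ⟶ Z) [LocallyOfFiniteType f] [LocallyOfFiniteType g]
    (hf : ∀ n : ℤ, DerSch.IsNPseudoCoherent f n) [DCoh.HasLpull f] (m : ℤ) {E : DCoh.D Y}
    (hq : DCoh.IsQCohD E) (hE : DerSch.IsPseudoCoherentRel g m E) :
    DerSch.IsPseudoCoherentRel (f ≫ g) m ((DCoh.Lpull f).obj E) := by
  refine RelPCSchLib.rel_of_pairs (f ≫ g) Set.univ ?_ ?_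
  · intro t
    obtain ⟨T, hT, hxT, -⟩ := exists_isAffineOpen_mem_and_subset (x := t) (U := ⊤) trivial
    exact ⟨⟨T, hT⟩, trivial, hxT⟩
  · rintro ⟨T, hT⟩ - x hx
    obtain ⟨W, hW, hxW, hWT⟩ := exists_isAffineOpen_mem_and_subset (x := f x) (U := g ⁻¹ᵁ T) hx
    obtain ⟨U, hU, hxU, hUW⟩ := exists_isAffineOpen_mem_and_subset (x := x) (U := f ⁻¹ᵁ W) hxW
    have hWT' : W ≤ g ⁻¹ᵁ T := hWT
    have hUW' : U ≤ f ⁻¹ᵁ W := hUW
    have hUT : U ≤ (f ≫ g) ⁻¹ᵁ T := fun y hy => hWT (hUW hy)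
    refine ⟨U, hU, hUT, hxU, ?_⟩
    obtain ⟨r, χ, hχ⟩ := RelPCSchLib.exists_isChart g hW hT hWT'
    obtain ⟨M, hM⟩ := FlatRelPCLib.exists_mod hq hW
    have hv : RelPCLib.PV χ m M := (FlatRelPCLib.chartPC_iff hW χ hχ.1 hM m).1
      ((RelPCSchLib.chartPC_iff m E hW T χ hχ.1).2 (RelPCSchLib.rpc_of_rel g hE hW hT hWT' r χ hχ))
    obtain ⟨s, ψ, hψ, hph⟩ := RelPCSchLib.phBase_of_nPC f hf U W hU hW hUW'
    letI : Algebra Γ(Z, T) Γ(Y, W) := (g.appLE T W hWT').hom.toAlgebra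
    letI : Algebra Γ(Y, W) Γ(X, U) := (f.appLE W U hUW').hom.toAlgebra
    letI : Algebra Γ(Z, T) Γ(X, U) := (g.appLE T W hWT' ≫ f.appLE W U hUW').hom.toAlgebra
    haveI : IsScalarTower Γ(Z, T) Γ(Y, W) Γ(X, U) := IsScalarTower.of_algebraMap_eq fun _ => rfl
    let χa : MvPolynomial (Fin r) Γ(Z, T) →ₐ[Γ(Z, T)] Γ(Y, W) :=
      { χ with commutes' := fun x => RingHom.congr_fun hχ.2 x }
    let ψa : MvPolynomial (Fin s) Γ(Y, W) →ₐ[Γ(Y, W)] Γ(X, U) :=
      { ψ with commutes' := fun x => RingHom.congr_fun hψ.2 x }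
    haveI : Algebra.FiniteType Γ(Z, T) Γ(Y, W) :=
      Algebra.FiniteType.of_surjective χa hχ.1
    haveI : Algebra.FiniteType Γ(Y, W) Γ(X, U) :=
      Algebra.FiniteType.of_surjective ψa hψ.1
    have hB : DerCA.IsRelPseudoCoherentModuleAll Γ(Y, W) Γ(X, U) Γ(X, U) := fun n =>
      (RelPCLib.isRel_iff ψa hψ.1 _ n).2 (hph n)
    haveI : DRing.HasLBaseChange (algebraMap Γ(Y, W) Γ(X, U)) := DRingLib.hasLBaseChange _
    obtain ⟨k, β, hβ, hv'⟩ := RelPCLib.isRel_lBaseChange hB M m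
      ((RelPCLib.isRel_iff χa hχ.1 M m).2 hv)
    haveI : DRing.HasLBaseChange (f.appLE W U hUW').hom := DRingLib.hasLBaseChange _
    refine RelPCSchLib.rpc_of_cpc (f ≫ g) hU β.toRingHom hβ ?_ ((RelPCSchLib.chartPC_iff m _ hU T β.toRingHom hβ).1
      ((FlatRelPCLib.chartPC_iff hU β.toRingHom hβ (BaseAmpLib.mod_lpull hW f hU hUW' hM) m).2 hv'))
    refine β.comp_algebraMap.trans ?_
    exact congrArg CommRingCat.Hom.hom (Scheme.Hom.appLE_comp_appLE f g T W U hWT' hUW')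

end LpullPCCompLib
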